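import Cfsg.Agent.Blocks.DetTwist
import Cfsg.Agent.Clifford.GlaubermanNormalSylow
import Cfsg.Agent.Clifford.ExtCriteria
import Cfsg.Agent.CharBasics.ItoConverse
import Cfsg.Prelude.Def_DegreeGraph

/-!
# Determinants along Clifford's theorem, and degrees lying over a linear character
-/

set_option autoImplicit false

namespace CfsgLib.RelDegGraph

open Cfsg CfsgLib.CharBasics CfsgLib.Clifford

universe u

variable {G : Type u} [Group G] [Finite G] {N : Subgroup G} [hN : N.Normal]

theorem prod_eq_of_powSums {ι κ : Type*} [Fintype ι] [Fintype κ] (a : ι → ℂ) (b : κ → ℂ)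
    (h : ∀ j : ℕ, ∑ i, a i ^ j = ∑ k, b k ^ j) : ∏ i, a i = ∏ k, b k := by
  classical
  have := DetTwist.multiset_eq_of_powSums (Finset.univ.val.map a) (Finset.univ.val.map b) fun j => by
    rw [Multiset.map_map, Multiset.map_map]
    exact h j
  exact congrArg Multiset.prod this

omit [Finite G] in
theorem charDegree_conjFun (θ : N → ℂ) (g : G) : charDegree (conjFun g θ) = charDegree θ := by
  unfold charDegree
  rw [conjFun_apply]
  congr 3
  exact Subtype.ext (by simp)

theorem detChar_conjFun {θ : N → ℂ} (hθ : IsIrrCharacter N θ) (g : G) (n : N) :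
    detChar (conjFun g θ) n = detChar θ (MulAut.conjNormal g n) := by
  rw [conjFun_eq_comp, NormalSylowCorr.detChar_comp hθ]

/-- The determinant of the restriction is the power of the product over the orbit. -/
theorem det_restrict [Fintype G] [Fintype N] [DecidableEq (N → ℂ)] {χ : G → ℂ} (hχ : IsIrrCharacter G χ)
    {θ : N → ℂ} (hθ : IsIrrCharacter N θ) {e : ℕ} (he : classInner (fun n : N => χ n) θ = e) (he0 : e ≠ 0)
    (n : N) :
    detChar χ n = (∏ φ ∈ Finset.univ.image (fun g : G => conjFun g θ), detChar φ n) ^ e := by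
  classical
  set O := Finset.univ.image (fun g : G => conjFun g θ) with hO
  have hirr : ∀ φ : O, IsIrrCharacter N (φ : N → ℂ) := fun φ => by
    obtain ⟨g, -, hg⟩ := Finset.mem_image.1 φ.2
    exact hg ▸ isIrrCharacter_conjFun g hθ
  choose lam hlam using fun φ : O => exists_eigen (isCharacter_of_irr (hirr φ)) n
  obtain ⟨L, -, hL⟩ := exists_eigen (isCharacter_of_irr hχ) (n : G)
  have hres := restrict_eq_orbit_sum hχ hθ (by rw [he]; exact Nat.cast_ne_zero.2 he0)
  rw [he] at hres
  have key : ∏ i, L i = ∏ x : (φ : O) × Fin e × Fin (charDegree (φ : N → ℂ)), lam x.1 x.2.2 := by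
    refine prod_eq_of_powSums _ _ fun j => ?_
    rw [← hL j]
    have := congrFun hres (n ^ j)
    simp only [Subgroup.coe_pow, Pi.smul_apply, Finset.sum_apply, smul_eq_mul] at this
    rw [this, Fintype.sum_sigma, Finset.mul_sum, ← Finset.sum_coe_sort]
    refine Finset.sum_congr rfl fun φ _ => ?_
    rw [Fintype.sum_prod_type]
    simp only []
    rw [Finset.sum_const, Finset.card_univ, Fintype.card_fin, nsmul_eq_mul]
    exact congrArg _ ((hlam φ).2 j)
  rw [DetTwist.detChar_eq_prod hχ L hL, key, Fintype.prod_sigma, ← Finset.prod_pow, ← Finset.prod_coe_sort O]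
  refine Finset.prod_congr rfl fun φ _ => ?_
  rw [Fintype.prod_prod_type]
  simp only []
  rw [Finset.prod_const, Finset.card_univ, Fintype.card_fin,
    DetTwist.detChar_eq_prod (hirr φ) (lam φ) (hlam φ).2]

/-- A degree lying over the linear character `μ`, through a power of a determinant. -/
def Above (N : Subgroup G) (a : ℕ) (μ : N →* ℂ) : Prop :=
  ∃ (χ : G → ℂ) (φ : N → ℂ) (c : ℕ), IsIrrCharacter G χ ∧ IsIrrCharacter N φ ∧ charDegree χ = a ∧
    (∀ [Fintype N], classInner (fun n : N => χ n) φ ≠ 0) ∧ ∀ n : N, μ n = detChar φ n ^ c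

theorem Above.pow {a : ℕ} {μ : N →* ℂ} (h : Above N a μ) (k : ℕ) : Above N a (μ ^ k) := by
  obtain ⟨χ, φ, c, h1, h2, h3, h4, h5⟩ := h
  exact ⟨χ, φ, c * k, h1, h2, h3, h4, fun n => by rw [MonoidHom.pow_apply, h5, ← pow_mul]⟩

/-- The inertia group of the linear character. -/
def stab (μ : N →* ℂ) : Subgroup G := inertia (fun n : N => μ n)

/-- A degree over `μ` is a multiple of the index of its stabiliser, and kills `μ` if this is everything. -/
theorem above_dvd (hNG : N ≤ commutator G) {μ : N →* ℂ} {a : ℕ} (h : Above N a μ) :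
    (stab μ).index ∣ a ∧ ((stab μ).index = 1 → ∀ n : N, μ n ^ a = 1) := by
  classical
  haveI := Fintype.ofFinite G
  haveI := Fintype.ofFinite N
  obtain ⟨χ, φ, c, hχ, hφ, rfl, hin, hc⟩ := h
  obtain ⟨e, he⟩ := classInner_characters_nat (CharBasics.isCharacter_restrict (isCharacter_of_irr hχ) N)
    (isCharacter_of_irr hφ)
  have he0 : e ≠ 0 := fun h => hin (by rw [he, h, Nat.cast_zero])
  have hdeg : charDegree χ = e * (inertia φ).index * charDegree φ := by
    have h1 := restrict_one_eq hχ hφ hin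
    rw [he, apply_one (isCharacter_of_irr hχ), apply_one (isCharacter_of_irr hφ), ← Nat.cast_mul,
      ← Nat.cast_mul, Nat.cast_inj] at h1
    exact h1
  have hconj : ∀ (g : G) (n : N), detChar (conjFun g φ) n ^ c = μ (MulAut.conjNormal g n) := fun g n => by
    rw [detChar_conjFun hφ, hc]
  have hle : inertia φ ≤ stab μ := fun g hg => funext fun n => by
    have h1 := hconj g n
    rw [mem_inertia.1 hg, ← hc] at h1
    rw [conjFun_eq_comp]
    exact h1.symm
  refine ⟨?_, fun h1 n => ?_⟩
  · rw [hdeg]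
    exact ((Subgroup.index_dvd_of_le hle).mul_left e).mul_right _
  · have hfix : ∀ g : G, μ (MulAut.conjNormal g n) = μ n := fun g => by
      have hg : g ∈ stab μ := by rw [Subgroup.index_eq_one.1 h1]; trivial
      have := congrFun (mem_inertia.1 hg) n
      rwa [conjFun_eq_comp] at this
    obtain ⟨f, hf⟩ := exists_detHom hχ
    have hf1 : f (n : G) = 1 := by
      have hk : (n : G) ∈ f.toHomUnits.ker := Abelianization.commutator_subset_ker _ (hNG n.2)
      simpa [MonoidHom.mem_ker, Units.ext_iff] using hk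
    have hd := det_restrict hχ hφ he he0 n
    rw [congrFun hf] at hd
    have hP : (∏ ψ ∈ Finset.univ.image (fun g : G => conjFun g φ), detChar ψ n) ^ c =
        μ n ^ (inertia φ).index := by
      rw [← Finset.prod_pow, ← card_orbit φ, Finset.prod_eq_pow_card]
      intro ψ hψ
      obtain ⟨g, -, rfl⟩ := Finset.mem_image.1 hψ
      rw [hconj, hfix]
    rw [hdeg, mul_comm e, pow_mul, pow_mul, ← hP, ← pow_mul _ c e, mul_comm c e, pow_mul, ← hd, hf1,
      one_pow, one_pow]

/-- **Key lemma.** All degrees over `μ ≠ 1` have a common divisor greater than one. -/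
theorem exists_common_dvd (hNG : N ≤ commutator G) {μ : N →* ℂ} (hμ : μ ≠ 1) :
    ∃ k : ℕ, 1 < k ∧ ∀ a : ℕ, Above N a μ → k ∣ a := by
  obtain ⟨n0, hn0⟩ : ∃ n0 : N, μ n0 ≠ 1 := not_forall.1 fun h => hμ (MonoidHom.ext h)
  by_cases hi : (stab μ).index = 1
  · refine ⟨orderOf (μ n0), ?_, fun a ha => orderOf_dvd_of_pow_eq_one ((above_dvd hNG ha).2 hi n0)⟩
    have h0 : μ n0 ^ orderOf n0 = 1 := by rw [← map_pow, pow_orderOf_eq_one, map_one]
    have hpos : 0 < orderOf (μ n0) :=
      (isOfFinOrder_iff_pow_eq_one.2 ⟨_, orderOf_pos n0, h0⟩).orderOf_pos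
    have h1 : orderOf (μ n0) ≠ 1 := fun h => hn0 (orderOf_eq_one_iff.1 h)
    omega
  · refine ⟨(stab μ).index, ?_, fun a ha => (above_dvd hNG ha).1⟩
    have := Subgroup.index_ne_zero_of_finite (H := stab μ)
    omega

end CfsgLib.RelDegGraph
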