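import Cfsg.Agent.RelDegGraph.Main
import Cfsg.Agent.Clifford.Gallagher
import Cfsg.Agent.Clifford.CoprimeDegree
import Cfsg.Agent.Clifford.Ito
import Mathlib.Combinatorics.SimpleGraph.Metric

/-!
# Short paths in the relative degree graph (Isaacs–Knutson)
-/

set_option autoImplicit false
set_option linter.unusedSectionVars false

namespace CfsgLib.RelDegGraph

open Cfsg CfsgLib.CharBasics CfsgLib.Clifford
open scoped commutatorElement

universe u

variable {G : Type u} [Group G] [Finite G] {N : Subgroup G} [hN : N.Normal]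

/-- Two degrees share a prime. -/
def Sh (a b : ℕ) : Prop := ¬ Nat.Coprime a b

theorem sh_of_dvd {a b k : ℕ} (hk : k ≠ 1) (h1 : k ∣ a) (h2 : k ∣ b) : Sh a b :=
  fun h => hk (Nat.eq_one_of_dvd_coprimes h h1 h2)

theorem Sh.symm {a b : ℕ} (h : Sh a b) : Sh b a := fun e => h e.symm

/-- A common neighbour, in the reflexive sense. -/
def Near (N : Subgroup G) (a b : ℕ) : Prop := ∃ z ∈ relCharDegrees N, Sh a z ∧ Sh z b

theorem Near.symm {a b : ℕ} (h : Near N a b) : Near N b a := ⟨h.choose, h.choose_spec.1, h.choose_spec.2.2.symm, h.choose_spec.2.1.symm⟩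

theorem near_of_sh {a b : ℕ} (ha : a ∈ relCharDegrees N) (h : Sh a b) : Near N a b :=
  ⟨a, ha, fun e => h (by rw [(Nat.coprime_self a).1 e]; exact Nat.coprime_one_left b), h⟩

theorem pos_of_mem {a : ℕ} (ha : a ∈ relCharDegrees N) : 0 < a := by
  obtain ⟨χ, -, rfl⟩ := ha
  exact charDegree_pos χ.2

theorem adj_of_sh {a b : ↥(relCharDegrees N)} (hne : a ≠ b) (h : Sh (a : ℕ) b) :
    (commonDivisorGraph.induce (relCharDegrees N)).Adj a b := by
  refine ⟨fun e => hne (Subtype.ext e), ?_⟩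
  have h0 := Nat.gcd_pos_of_pos_left (b : ℕ) (pos_of_mem a.2)
  have h1 : Nat.gcd (a : ℕ) b ≠ 1 := h
  simp only [Function.Embedding.subtype_apply]
  omega

/-- A linear constituent: a nontrivial character of prime power order below the degree. -/
def Lin (N : Subgroup G) (s : ℕ) (a : ℕ) : Prop :=
  s.Prime ∧ s ∣ ⁅N, N⁆.relIndex N ∧
    ∃ ρ : N →* ℂ, ρ ≠ 1 ∧ ρ ^ s ^ (Nat.card N).factorization s = 1 ∧ Deg N a ρ

/-- A nonlinear constituent of degree `d`. -/
def NL (N : Subgroup G) (q : ℕ) (a d : ℕ) : Prop :=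
  a ∈ relCharDegrees N ∧ 1 < d ∧ d ∣ a ∧
    (∀ (s : ℕ) (μ : N →* ℂ), s.Prime → ¬ s ∣ d → μ ≠ 1 → μ ^ s ^ (Nat.card N).factorization s = 1 →
      ∃ e, Deg N e μ ∧ d ∣ e) ∧
    (q ∣ d ∨ ∃ c r : ℕ, c ∈ relCharDegrees N ∧ r.Prime ∧ r ∣ ⁅N, N⁆.relIndex N ∧ r ∣ c ∧ d ∣ c)

omit [Finite G] hN in
theorem relIndex_commutator (N : Subgroup G) : ⁅N, N⁆.relIndex N = (commutator ↥N).index := by
  have hm : (commutator ↥N).map N.subtype = ⁅N, N⁆ := Subgroup.map_subtype_commutator N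
  rw [Subgroup.relIndex, ← hm, Subgroup.subgroupOf,
    Subgroup.comap_map_eq_self_of_injective N.subtype_injective]

theorem lin_of_hom {a : ℕ} {φ : N →* ℂ} (hφ : φ ≠ 1) (h : Deg N a φ) : ∃ s, Lin N s a := by
  have hpow := pow_card_eq_one φ
  have ho : orderOf φ ≠ 1 := fun e => hφ (orderOf_eq_one_iff.1 e)
  obtain ⟨s, hs, hso⟩ := Nat.exists_prime_and_dvd ho
  obtain ⟨P, R, c, c', hP, hPR, hcop, hc, hRc, -, -, -⟩ := exists_proj hs N
  have hsP : s ∣ P := hP ▸ dvd_pow_self s (hs.factorization_pos_of_dvd Nat.card_pos.ne'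
    (hso.trans (orderOf_dvd_of_pow_eq_one hpow))).ne'
  have hne : φ ^ c ≠ 1 := fun e => by
    have h1 : s ∣ c := hso.trans (orderOf_dvd_of_pow_eq_one e)
    exact hs.ne_one (Nat.dvd_one.1 ((hc.of_dvd hsP).dvd_iff dvd_rfl |>.1 h1))
  have hcP : (φ ^ c) ^ P = 1 := by
    obtain ⟨k, rfl⟩ := hRc
    rw [← pow_mul, show R * k * P = P * R * k by ring, hPR, pow_mul, hpow, one_pow]
  refine ⟨s, hs, ?_, φ ^ c, hne, hP ▸ hcP, h.pow c⟩
  by_contra hsm
  rw [relIndex_commutator] at hsm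
  refine hne (MonoidHom.ext fun n => ?_)
  have h1 : (φ ^ c) n ^ P = 1 := by rw [← MonoidHom.pow_apply, hcP]; rfl
  have h2 : (φ ^ c) n ^ (commutator ↥N).index = 1 := by
    rw [← map_pow]
    have := Abelianization.commutator_subset_ker (φ ^ c).toHomUnits
      (Subgroup.pow_index_mem (commutator ↥N) n)
    simpa [MonoidHom.mem_ker, Units.ext_iff] using this
  have h3 : P.Coprime (commutator ↥N).index := hP ▸ ((hs.coprime_iff_not_dvd).2 hsm).pow_left _
  simpa [h3.gcd_eq_one] using pow_gcd_eq_one.2 ⟨h1, h2⟩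

/-- A twist with prescribed projection. -/
theorem twist {θ : N → ℂ} (hθ : IsIrrCharacter N θ) (hd : 1 < charDegree θ) {p : ℕ} (hp : p.Prime)
    (hpd : ¬ p ∣ charDegree θ) {μ : N →* ℂ} (hμP' : μ ^ p ^ (Nat.card N).factorization p = 1) :
    ∃ e, Deg N e μ ∧ charDegree θ ∣ e := by
  classical
  haveI := Fintype.ofFinite N
  obtain ⟨P, R, c, c', hP, hPR, hcop, hc, hRc, -, -, -⟩ := exists_proj hp N
  rw [← hP] at hμP'
  set d := charDegree θ with hd'
  obtain ⟨f, hf⟩ := exists_detHom hθ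
  have hdcop : d.Coprime P := by
    rw [hP]; exact ((hp.coprime_iff_not_dvd).2 hpd).symm.pow_right _
  set ρ : N →* ℂ := μ * (f ^ c) ^ (P - 1) with hρdef
  have hfP : (f ^ c) ^ P = 1 := by
    obtain ⟨k, rfl⟩ := hRc
    rw [← pow_mul, show R * k * P = P * R * k by ring, hPR, pow_mul, pow_card_eq_one, one_pow]
  have hρP : ρ ^ P = 1 := by rw [hρdef, mul_pow, hμP', ← pow_mul, mul_comm (P - 1), pow_mul, hfP, one_pow, one_mul]
  obtain ⟨k, hk⟩ : ∃ k : ℕ, d * k ≡ 1 [MOD P] := by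
    obtain ⟨k, hk1, hk2⟩ := Nat.chineseRemainder hdcop 0 1
    obtain ⟨t, rfl⟩ := Nat.modEq_zero_iff_dvd.1 hk1
    exact ⟨t, hk2⟩
  have hPpos : 0 < P := hP ▸ pow_pos hp.pos _
  set lam : N →* ℂ := ρ ^ k with hlam
  have key : ∀ n : N, μ n = detChar (fun x => lam x * θ x) n ^ c := by
    intro n
    have e0 : (lam ^ d * f) ^ c = μ := by
      rw [mul_pow, hlam, ← pow_mul ρ, ← pow_mul ρ, pow_eq_self hρP, hρdef, mul_assoc, ← pow_succ,
        Nat.sub_add_cancel hPpos, hfP, mul_one]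
      rw [mul_comm k d]
      simpa using hk.mul hc
    rw [detChar_linear_mul hθ lam (apply_one (isCharacter_of_irr hθ)), hf, ← hd']
    exact (DFunLike.congr_fun e0 n).symm
  have hdeg' : charDegree (fun x => lam x * θ x) = d := by simp [hd', charDegree]
  obtain ⟨b', -, -, hdvd', hb'⟩ := exists_deg (isIrrCharacter_linear_mul hθ lam) (fun h => hd.ne' (by
    rw [← hdeg', h]; simp [charDegree]))
  exact ⟨b', hb' μ c key, hdeg' ▸ hdvd'⟩

/-- A prime governing the nonlinear characters of the solvable group `N`. -/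
theorem exists_q [Group.IsSolvable N] : ∃ q : ℕ, q ≠ 1 ∧ ∀ θ : IrrCharacter ↥N, 1 < charDegree (θ : N → ℂ) →
    ((q.Prime ∧ q ∣ charDegree (θ : N → ℂ)) ∨
      (∃ r, r.Prime ∧ r ∣ ⁅N, N⁆.relIndex N ∧ r ∣ charDegree (θ : N → ℂ)) ∨
      ∃ ψ : ↥N → ℂ, IsIrrCharacter N (fun n => ψ n * (θ : N → ℂ) n) ∧ ∃ t, 1 < t ∧ t ∣ ⁅N, N⁆.relIndex N ∧
        charDegree (fun n => ψ n * (θ : N → ℂ) n) = t * charDegree (θ : N → ℂ)) := by
  classical
  haveI := Fintype.ofFinite N
  by_cases hL : commutator ↥N = ⊥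
  · refine ⟨2, by omega, fun θ hθ => ?_⟩
    haveI : IsMulCommutative (⊤ : Subgroup ↥N) := ⟨⟨fun a b => Subtype.ext (by
      have h : ⁅(a : N), (b : N)⁆ ∈ commutator ↥N :=
        Subgroup.commutator_mem_commutator (Subgroup.mem_top _) (Subgroup.mem_top _)
      rw [hL, Subgroup.mem_bot, commutatorElement_eq_one_iff_mul_comm] at h
      exact h)⟩⟩
    have := ito_dvd θ.2 (⊤ : Subgroup ↥N)
    rw [Subgroup.index_top, Nat.dvd_one] at this
    omega
  set L := commutator ↥N with hLdef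
  haveI : L.Normal := Subgroup.commutator_normal ⊤ ⊤
  have hLlt : ⁅L, L⁆ < L := IsSolvable.commutator_lt_of_ne_bot hL
  have hab1 : Nat.card (Abelianization ↥L) ≠ 1 := by
    intro h1
    rw [show Nat.card (Abelianization ↥L) = (commutator ↥L).index from (Subgroup.index_eq_card _).symm,
      Subgroup.index_eq_one] at h1
    have := Subgroup.map_subtype_commutator L
    rw [h1, ← MonoidHom.range_eq_map, Subgroup.range_subtype] at this
    exact hLlt.ne this.symm
  obtain ⟨q, hq, hqd⟩ := Nat.exists_prime_and_dvd hab1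
  refine ⟨q, hq.ne_one, fun θ hθ1 => ?_⟩
  set P := q ^ (Nat.card (Abelianization ↥L)).factorization q with hP
  set R := Nat.card (Abelianization ↥L) / P with hR
  have hPR : P * R = Nat.card (Abelianization ↥L) := Nat.mul_div_cancel' (Nat.ordProj_dvd _ _)
  let π : ↥L →* Abelianization ↥L := (powMonoidHom R).comp Abelianization.of
  let K : Subgroup ↥N := π.ker.map L.subtype
  have hKn : K.Normal := by
    refine ⟨fun k hk g => ?_⟩
    obtain ⟨l, hl, rfl⟩ := hk
    refine ⟨(MulAut.conjNormal g : MulAut ↥L) l, ?_, MulAut.conjNormal_apply g l⟩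
    rw [SetLike.mem_coe, MonoidHom.mem_ker] at hl ⊢
    have e : π ((MulAut.conjNormal g : MulAut ↥L) l) =
        Abelianization.map ((MulAut.conjNormal g : MulAut ↥L).toMonoidHom) (π l) := by
      simp only [π, MonoidHom.comp_apply, powMonoidHom_apply, map_pow, Abelianization.map_of]
      rfl
    rw [e, hl, map_one]
  have hKL : K ≤ L := Subgroup.map_subtype_le _
  have hrel : K.relIndex L = π.ker.index := by
    rw [Subgroup.relIndex, Subgroup.subgroupOf, Subgroup.comap_map_eq_self_of_injective L.subtype_injective]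
  have hLK : ¬ L ≤ K := by
    intro hle
    have h1 := hrel ▸ Subgroup.relIndex_eq_one.2 hle
    haveI : Fact q.Prime := ⟨hq⟩
    obtain ⟨A, hA⟩ := exists_prime_orderOf_dvd_card' (G := Abelianization ↥L) q hqd
    obtain ⟨l, rfl⟩ := QuotientGroup.mk_surjective A
    have h2 : π l = 1 := MonoidHom.mem_ker.1 (by rw [Subgroup.index_eq_one.1 h1]; trivial)
    have h3 : q ∣ R := hA ▸ orderOf_dvd_of_pow_eq_one h2
    exact Nat.not_dvd_ordCompl hq Nat.card_pos.ne' h3
  have hrelP : ∀ r : ℕ, r.Prime → r ∣ K.relIndex L → r = q := by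
    intro r hr hrd
    haveI : Fact r.Prime := ⟨hr⟩
    rw [hrel, Subgroup.index_ker] at hrd
    obtain ⟨⟨y, hy⟩, hyo⟩ := exists_prime_orderOf_dvd_card' (G := π.range) r hrd
    obtain ⟨l, rfl⟩ := hy
    rw [← Subgroup.orderOf_coe] at hyo
    have h : r ∣ P := hyo ▸ orderOf_dvd_of_pow_eq_one (by
      simp only [π, MonoidHom.comp_apply, powMonoidHom_apply, ← pow_mul]
      rw [mul_comm, hPR, pow_card_eq_one'])
    exact (Nat.prime_dvd_prime_iff_eq hr hq).1 (hr.dvd_of_dvd_pow h)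
  rw [relIndex_commutator, ← hLdef]
  set d := charDegree (θ : N → ℂ) with hd
  by_cases hcop : d.Coprime K.index
  · right; right
    haveI := Fintype.ofFinite K
    obtain ⟨η, hη⟩ : ∃ η : IrrCharacter ↥K, classInner (fun n : K => (θ : N → ℂ) n) (η : K → ℂ) ≠ 0 := by
      obtain ⟨η, m, hm, hηm⟩ := exists_constituent (CharBasics.isCharacter_restrict (isCharacter_of_irr θ.2) K)
        (by simpa using apply_one_ne_zero θ.2)
      exact ⟨η, by rw [hηm]; exact Nat.cast_ne_zero.2 hm.ne'⟩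
    obtain ⟨-, hres⟩ := CoprimeDegree.restrict_of_coprime hcop hη
    -- a nonlinear character trivial on `K`
    obtain ⟨χ, hχ⟩ : ∃ χ : IrrCharacter (↥N ⧸ K), charDegree (χ : (↥N ⧸ K) → ℂ) ≠ 1 := by
      by_contra hall
      push Not at hall
      haveI := ItoConverse.isMulCommutative_of_all_linear hall
      refine hLK (Subgroup.commutator_le.2 fun a _ b _ => ?_)
      rw [← QuotientGroup.eq_one_iff, ← QuotientGroup.mk'_apply, map_commutatorElement,
        commutatorElement_eq_one_iff_mul_comm]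
      exact mul_comm' _ _
    haveI : Fintype (↥N ⧸ K) := Fintype.ofFinite _
    set ψ : ↥N → ℂ := fun n => (χ : (↥N ⧸ K) → ℂ) (QuotientGroup.mk' K n) with hψdef
    have hψ : IsIrrCharacter N ψ := isIrrCharacter_comp χ.2 _ (QuotientGroup.mk'_surjective K)
    have hψdeg : charDegree ψ = charDegree (χ : (↥N ⧸ K) → ℂ) := by simp [charDegree, hψdef]
    haveI hLab : IsMulCommutative (L.map (QuotientGroup.mk' K)) := by
      refine ⟨⟨fun a b => Subtype.ext ?_⟩⟩
      obtain ⟨a, a', ha, rfl⟩ := a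
      obtain ⟨b, b', hb, rfl⟩ := b
      show QuotientGroup.mk' K a' * QuotientGroup.mk' K b' = QuotientGroup.mk' K b' * QuotientGroup.mk' K a'
      rw [← commutatorElement_eq_one_iff_mul_comm, ← map_commutatorElement, QuotientGroup.mk'_apply,
        QuotientGroup.eq_one_iff]
      refine ⟨⁅(⟨a', ha⟩ : ↥L), (⟨b', hb⟩ : ↥L)⁆, ?_, map_commutatorElement L.subtype _ _⟩
      rw [SetLike.mem_coe, MonoidHom.mem_ker, map_commutatorElement,
        commutatorElement_eq_one_iff_mul_comm]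
      exact mul_comm _ _
    haveI : (L.map (QuotientGroup.mk' K)).Normal :=
      Subgroup.Normal.map inferInstance _ (QuotientGroup.mk'_surjective K)
    have hidx : charDegree (χ : (↥N ⧸ K) → ℂ) ∣ L.index := by
      have := ito_dvd χ.2 (L.map (QuotientGroup.mk' K))
      rwa [Subgroup.index_map_eq L (QuotientGroup.mk'_surjective K) (by rw [QuotientGroup.ker_mk']; exact hKL)] at this
    have hψK : ∀ n ∈ K, ψ n = ψ 1 := fun n hn => by
      simp only [hψdef, map_one, QuotientGroup.mk'_apply, (QuotientGroup.eq_one_iff n).2 hn, QuotientGroup.mk_one]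
    have hirrη : IsIrrCharacter K ((fun _ => (1 : ℂ)) * fun n : K => (θ : N → ℂ) n) := by
      convert η.2 using 1
      funext n
      simp [hres n]
    have hb := (gallagher_bijOn (φ := fun _ : K => (1 : ℂ)) (θ := fun n : K => (θ : N → ℂ) n) isIrrCharacter_one
      (fun g => rfl) hirrη (isCharacter_of_irr θ.2) (fun n => rfl)).mapsTo
      ⟨hψ, (mem_over_one_iff hψ).2 hψK⟩
    refine ⟨ψ, hb.1, charDegree ψ, ?_, hψdeg ▸ hidx, ?_⟩
    · have := charDegree_pos hψ
      omega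
    · have h1 : ψ 1 * (θ : N → ℂ) 1 = ((charDegree ψ * d : ℕ) : ℂ) := by
        rw [apply_one (isCharacter_of_irr hψ), apply_one (isCharacter_of_irr θ.2), Nat.cast_mul]
      show ⌊(ψ 1 * (θ : N → ℂ) 1).re⌋₊ = charDegree ψ * d
      rw [h1, Complex.natCast_re, Nat.floor_natCast]
  · obtain ⟨r, hr, hrd, hrK⟩ := Nat.Prime.not_coprime_iff_dvd.1 hcop
    rw [← Subgroup.relIndex_mul_index hKL] at hrK
    rcases (Nat.Prime.dvd_mul hr).1 hrK with h | h
    · exact Or.inl ⟨hq, hrelP r hr h ▸ hrd⟩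
    · exact Or.inr (Or.inl ⟨r, hr, h, hrd⟩)

/-- Every degree has a linear or a nonlinear constituent. -/
theorem cases_mem [Group.IsSolvable N] : ∃ q : ℕ, q ≠ 1 ∧ ∀ a ∈ relCharDegrees N,
    (∃ s, Lin N s a) ∨ ∃ d, NL N q a d := by
  classical
  haveI := Fintype.ofFinite G
  haveI := Fintype.ofFinite N
  obtain ⟨q, hq1, hq⟩ := exists_q (N := N)
  refine ⟨q, hq1, ?_⟩
  rintro _ ⟨χ, ⟨x, hxN, hx⟩, rfl⟩
  have hres := CharBasics.isCharacter_restrict (isCharacter_of_irr χ.2) N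
  obtain ⟨θ, m, hm, hθm⟩ := exists_constituent hres (by simpa using apply_one_ne_zero χ.2)
  have hin : classInner (fun n : N => (χ : G → ℂ) n) (θ : N → ℂ) ≠ 0 := by
    rw [hθm]; exact Nat.cast_ne_zero.2 hm.ne'
  have hmem : charDegree (χ : G → ℂ) ∈ relCharDegrees N := ⟨χ, ⟨x, hxN, hx⟩, rfl⟩
  have hapos := charDegree_pos χ.2
  have hθne : (θ : N → ℂ) ≠ fun _ => 1 := by
    intro hθ1
    have hinv : ∀ g : G, conjFun g (θ : N → ℂ) = (θ : N → ℂ) := fun g => by rw [hθ1]; rfl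
    have hr := restrict_eq_smul_of_invariant χ.2 θ.2 hinv hin
    have h1 := congrFun hr ⟨x, hxN⟩
    have h2 := congrFun hr 1
    rw [Pi.smul_apply, hθ1] at h1 h2
    exact hx (h1.trans h2.symm)
  by_cases hd1 : charDegree (θ : N → ℂ) = 1
  · left
    obtain ⟨φ, hφ⟩ := exists_hom_of_linear (isCharacter_of_irr θ.2)
      (by rw [apply_one (isCharacter_of_irr θ.2), hd1, Nat.cast_one])
    refine lin_of_hom (φ := φ) (fun h => hθne (by rw [hφ, h]; rfl)) ⟨hmem, hapos, (χ : G → ℂ), (θ : N → ℂ), 1, χ.2, θ.2, rfl,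
      fun {_} => by convert hin, fun n => by rw [hφ, detChar_hom, pow_one]⟩
  · right
    have h1 : 1 < charDegree (θ : N → ℂ) := lt_of_le_of_ne (charDegree_pos θ.2) (Ne.symm hd1)
    have hdvd : charDegree (θ : N → ℂ) ∣ charDegree (χ : G → ℂ) := by
      have h1 := restrict_one_eq χ.2 θ.2 hin
      rw [hθm, apply_one (isCharacter_of_irr χ.2), apply_one (isCharacter_of_irr θ.2), ← Nat.cast_mul,
        ← Nat.cast_mul, Nat.cast_inj] at h1
      exact h1 ▸ dvd_mul_left _ _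
    refine ⟨charDegree (θ : N → ℂ), hmem, h1, hdvd,
      fun s μ hs hsd _ hμ => twist θ.2 h1 hs hsd hμ, ?_⟩
    rcases hq θ h1 with ⟨-, h⟩ | ⟨r, hr, hrm, hrd⟩ | ⟨ψ, hψ, t, ht, htm, htd⟩
    · exact Or.inl h
    · exact Or.inr ⟨_, r, hmem, hr, hrm, hrd.trans hdvd, hdvd⟩
    · right
      obtain ⟨r, hr, hrt⟩ := Nat.exists_prime_and_dvd ht.ne'
      obtain ⟨b, hb, -, hbd, -⟩ := exists_deg hψ (fun e => by
        have : charDegree (fun n => ψ n * (θ : N → ℂ) n) = 1 := by rw [e]; simp [charDegree]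
        rw [htd, mul_eq_one] at this
        omega)
      rw [htd] at hbd
      exact ⟨b, r, hb, hr, hrt.trans htm, (hrt.trans (dvd_mul_right t _)).trans hbd,
        (dvd_mul_left _ t).trans hbd⟩

variable (hNG : N ≤ commutator G)
include hNG

theorem sh_of_deg {μ : N →* ℂ} (hμ : μ ≠ 1) {a b : ℕ} (ha : Deg N a μ) (hb : Deg N b μ) : Sh a b := by
  obtain ⟨k, hk, h⟩ := exists_common_dvd hNG hμ
  exact sh_of_dvd hk.ne' (h a ha.2.2) (h b hb.2.2)

/-- Characters for two different primes. -/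
theorem near_of_ne {s t : ℕ} (hs : s.Prime) (ht : t.Prime) (hst : s ≠ t) {μ ν : N →* ℂ} (hμ : μ ≠ 1) (hν : ν ≠ 1)
    (hμS : μ ^ s ^ (Nat.card N).factorization s = 1) (hνT : ν ^ t ^ (Nat.card N).factorization t = 1)
    {a b : ℕ} (ha : Deg N a μ) (hb : Deg N b ν) : Near N a b := by
  obtain ⟨P, R, c, c', hP, hPR, hcop, hc, hRc, hc', hPc', -⟩ := exists_proj hs N
  have hTR : t ^ (Nat.card N).factorization t ∣ R := by
    have h : t ^ (Nat.card N).factorization t ∣ P * R := hPR ▸ Nat.ordProj_dvd _ _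
    exact (((Nat.coprime_primes ht hs).2 (Ne.symm hst)).pow _ _).dvd_of_dvd_mul_left (hP ▸ h)
  have hνR : ν ^ R = 1 := pow_eq_one' hνT hTR
  rw [← hP] at hμS
  have k1 : (μ * ν) ^ c = μ := by rw [mul_pow, pow_eq_self hμS hc, pow_eq_one' hνR hRc, mul_one]
  have k2 : (μ * ν) ^ c' = ν := by rw [mul_pow, pow_eq_self hνR hc', pow_eq_one' hμS hPc', one_mul]
  obtain ⟨d, hd⟩ := exists_deg_hom (μ := μ * ν) (fun h => hμ (by rw [← k1, h, one_pow]))
  exact ⟨d, hd.1, sh_of_deg hNG hμ ha (k1 ▸ hd.pow c), sh_of_deg hNG hν (k2 ▸ hd.pow c') hb⟩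

theorem near_lin_nl {s a : ℕ} (ha : Lin N s a) {q b d : ℕ} (hb : NL N q b d) (hsd : ¬ s ∣ d) : Near N a b := by
  obtain ⟨hs, -, ρ, hρ, hρS, had⟩ := ha
  obtain ⟨e, he, hde⟩ := hb.2.2.2.1 s ρ hs hsd hρ hρS
  exact ⟨e, he.1, sh_of_deg hNG hρ had he, sh_of_dvd hb.2.1.ne' hde hb.2.2.1⟩

variable [Group.IsSolvable N] {q : ℕ} (hcases : ∀ a ∈ relCharDegrees N, (∃ s, Lin N s a) ∨ ∃ d, NL N q a d)
include hcases

/-- A degree with a linear constituent at `s`, prime to `s`, is near all degrees prime to `s`. -/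
theorem near_lin_free {s a b : ℕ} (ha : Lin N s a) (hsa : ¬ s ∣ a) (hb : b ∈ relCharDegrees N)
    (hsb : ¬ s ∣ b) : Near N a b := by
  rcases hcases b hb with ⟨t, hbl⟩ | ⟨d, hbn⟩
  · obtain ⟨ht, htm, σ, hσ, hσT, hbd⟩ := hbl
    obtain ⟨hs, hsm, ρ, hρ, hρS, had⟩ := ha
    rcases ne_or_eq s t with hst | rfl
    · exact near_of_ne hNG hs ht hst hρ hσ hρS hσT had hbd
    have hi : (stab ρ).index ≠ 1 ∧ ¬ s ∣ (stab ρ).index ∧ (stab σ).index ≠ 1 ∧ ¬ s ∣ (stab σ).index := by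
      have key : ∀ {τ : N →* ℂ} {c : ℕ}, τ ≠ 1 → τ ^ s ^ (Nat.card N).factorization s = 1 → Deg N c τ →
          ¬ s ∣ c → (stab τ).index ≠ 1 ∧ ¬ s ∣ (stab τ).index := by
        intro τ c hτ hτS hc hsc
        obtain ⟨hi, hone⟩ := above_dvd hNG hc.2.2
        refine ⟨fun h1 => hsc ?_, fun h => hsc (h.trans hi)⟩
        obtain ⟨n0, hn0⟩ : ∃ n0 : N, τ n0 ≠ 1 := not_forall.1 fun h => hτ (MonoidHom.ext h)
        have h3 : τ n0 ^ s ^ (Nat.card N).factorization s = 1 := by rw [← MonoidHom.pow_apply, hτS]; rfl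
        obtain ⟨i, -, hi'⟩ := (Nat.dvd_prime_pow hs).1 (orderOf_dvd_of_pow_eq_one h3)
        rcases Nat.eq_zero_or_pos i with rfl | hipos
        · exact absurd (orderOf_eq_one_iff.1 (by simpa using hi')) hn0
        · exact ((dvd_pow_self s hipos.ne').trans (hi' ▸ dvd_rfl)).trans
            (orderOf_dvd_of_pow_eq_one (hone h1 n0))
      exact ⟨(key hρ hρS had hsa).1, (key hρ hρS had hsa).2, key hσ hσT hbd hsb⟩
    obtain ⟨hi, hpi, hj, hpj⟩ := hi
    obtain ⟨hia, -⟩ := above_dvd hNG had.2.2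
    obtain ⟨hjb, -⟩ := above_dvd hNG hbd.2.2
    by_cases hcop : (stab ρ).index.Coprime (stab σ).index
    · have h1 := not_coprime_index_mul hs hρS hi hpj hcop
      have h2 := not_coprime_index_mul hs hσT hj hpi hcop.symm
      rw [mul_comm σ ρ] at h2
      have hk : ρ * σ ≠ 1 := fun e1 => h1 (by
        have htop : stab (ρ * σ) = ⊤ := eq_top_iff.2 fun g _ => mem_stab.2 (by rw [e1]; rfl)
        rw [htop, Subgroup.index_top]
        exact Nat.coprime_one_left _)
      obtain ⟨e, he⟩ := exists_deg_hom hk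
      obtain ⟨hkd, -⟩ := above_dvd hNG he.2.2
      exact ⟨e, he.1, fun h => h1 ((h.coprime_dvd_left hia).coprime_dvd_right hkd).symm,
        fun h => h2 ((h.coprime_dvd_left hkd).coprime_dvd_right hjb)⟩
    · exact near_of_sh had.1 fun h => hcop ((h.coprime_dvd_left hia).coprime_dvd_right hjb)
  · exact near_lin_nl hNG ha hbn fun h => hsb (h.trans hbn.2.2.1)

end CfsgLib.RelDegGraph
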