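import Cfsg.Agent.RelDegGraph.Orbit
import Mathlib.GroupTheory.FiniteAbelian.Duality
import Mathlib.Combinatorics.SimpleGraph.Connectivity.Connected

/-!
# At most two components (Isaacs–Knutson)
-/

set_option autoImplicit false

namespace CfsgLib.RelDegGraph

open Cfsg CfsgLib.CharBasics CfsgLib.Clifford

universe u

variable {G : Type u} [Group G] [Finite G] {N : Subgroup G} [hN : N.Normal]

/-- Connectedness in the relative degree graph. -/
def Conn (N : Subgroup G) (a b : ℕ) : Prop :=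
  ∃ (ha : a ∈ relCharDegrees N) (hb : b ∈ relCharDegrees N),
    (commonDivisorGraph.induce (relCharDegrees N)).Reachable ⟨a, ha⟩ ⟨b, hb⟩

omit [Finite G] hN in
theorem Conn.symm {a b : ℕ} (h : Conn N a b) : Conn N b a := ⟨h.2.1, h.1, h.2.2.symm⟩

omit [Finite G] hN in
theorem Conn.trans {a b c : ℕ} (h : Conn N a b) (h' : Conn N b c) : Conn N a c :=
  ⟨h.1, h'.2.1, h.2.2.trans h'.2.2⟩

omit [Finite G] hN in
theorem conn_of_dvd {a b k : ℕ} (hk : 1 < k) (ha : a ∈ relCharDegrees N) (hb : b ∈ relCharDegrees N)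
    (h1 : k ∣ a) (h2 : k ∣ b) (hpos : 0 < a) : Conn N a b := by
  refine ⟨ha, hb, ?_⟩
  rcases eq_or_ne a b with rfl | hne
  · rfl
  refine SimpleGraph.Adj.reachable ?_
  simp only [SimpleGraph.comap_adj, Function.Embedding.subtype_apply]
  exact ⟨hne, lt_of_lt_of_le hk (Nat.le_of_dvd (Nat.gcd_pos_of_pos_left _ hpos) (Nat.dvd_gcd h1 h2))⟩

/-- A degree of a character over `μ ≠ 1`, with membership. -/
def Deg (N : Subgroup G) (a : ℕ) (μ : N →* ℂ) : Prop := a ∈ relCharDegrees N ∧ 0 < a ∧ Above N a μ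

theorem Deg.pow {a : ℕ} {μ : N →* ℂ} (h : Deg N a μ) (k : ℕ) : Deg N a (μ ^ k) := ⟨h.1, h.2.1, h.2.2.pow k⟩

theorem conn_of_deg (hNG : N ≤ commutator G) {μ : N →* ℂ} (hμ : μ ≠ 1) {a b : ℕ} (ha : Deg N a μ)
    (hb : Deg N b μ) : Conn N a b := by
  obtain ⟨k, hk, h⟩ := exists_common_dvd hNG hμ
  exact conn_of_dvd hk ha.1 hb.1 (h a ha.2.2) (h b hb.2.2) ha.2.1

/-- A degree over a given nontrivial character of `N`. -/
theorem exists_deg {θ : N → ℂ} (hθ : IsIrrCharacter N θ) (hne : θ ≠ fun _ => 1) :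
    ∃ b, b ∈ relCharDegrees N ∧ 0 < b ∧ charDegree θ ∣ b ∧
      ∀ (μ : N →* ℂ) (c : ℕ), (∀ n, μ n = detChar θ n ^ c) → Deg N b μ := by
  classical
  haveI := Fintype.ofFinite N
  obtain ⟨χ, e, he0, hdeg, he⟩ := ItoConverse.exists_over N ⟨θ, hθ⟩
  have hin : classInner (fun n : N => (χ : G → ℂ) n) θ ≠ 0 := by
    rw [he]; exact Nat.cast_ne_zero.2 he0.ne'
  have hmem : charDegree (χ : G → ℂ) ∈ relCharDegrees N := by
    refine ⟨χ, ?_, rfl⟩
    by_contra hall
    push Not at hall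
    refine hin ?_
    have hconst : (fun n : N => (χ : G → ℂ) n) = ((χ : G → ℂ) 1) • (fun _ : N => (1 : ℂ)) := by
      funext n; simp [hall n n.2]
    rw [hconst, classInner_smul_left, classInner_ne (isIrrCharacter_one (G := N)) hθ (Ne.symm hne), mul_zero]
  refine ⟨_, hmem, charDegree_pos χ.2, ⟨e * (inertia θ).index, by rw [hdeg]; ring⟩, fun μ c h => ?_⟩
  exact ⟨hmem, charDegree_pos χ.2, (χ : G → ℂ), θ, c, χ.2, hθ, rfl, fun {_} => by convert hin, h⟩

theorem detChar_hom (f : N →* ℂ) (n : N) : detChar (fun x => f x) n = f n := by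
  have hd : charDegree (fun x => f x) = 1 := by simp [charDegree]
  rw [DetTwist.detChar_eq_prod (isIrrCharacter_of_hom f) (fun _ : Fin (charDegree fun x => f x) => f n)
    (fun j => by simp [hd, map_pow]), Finset.prod_const, Finset.card_univ, Fintype.card_fin, hd, pow_one]

omit [Finite G] hN in
theorem ne_one_fun {f : N →* ℂ} (hf : f ≠ 1) : (fun x => f x) ≠ fun _ => (1 : ℂ) := fun h =>
  hf (MonoidHom.ext (congrFun h))

theorem exists_deg_hom {μ : N →* ℂ} (hμ : μ ≠ 1) : ∃ b, Deg N b μ := by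
  obtain ⟨b, -, -, -, h⟩ := exists_deg (isIrrCharacter_of_hom μ) (ne_one_fun hμ)
  exact ⟨b, h μ 1 fun n => by rw [detChar_hom, pow_one]⟩

/-- Exponents isolating the `p`-part. -/
theorem exists_proj {p : ℕ} (hp : p.Prime) (N : Subgroup G) :
    ∃ P R c c' : ℕ, P = p ^ (Nat.card N).factorization p ∧ P * R = Nat.card N ∧ P.Coprime R ∧
      c ≡ 1 [MOD P] ∧ R ∣ c ∧ c' ≡ 1 [MOD R] ∧ P ∣ c' ∧ c + c' ≡ 1 [MOD Nat.card N] := by
  set P := p ^ (Nat.card N).factorization p with hP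
  set R := Nat.card N / P with hR
  have hPR : P * R = Nat.card N := Nat.mul_div_cancel' (Nat.ordProj_dvd _ _)
  have hcop : P.Coprime R :=
    ((hp.coprime_iff_not_dvd).2 (Nat.not_dvd_ordCompl hp Nat.card_pos.ne')).pow_left _
  obtain ⟨c, hc1, hc2⟩ := Nat.chineseRemainder hcop 1 0
  obtain ⟨c', hd1, hd2⟩ := Nat.chineseRemainder hcop 0 1
  refine ⟨P, R, c, c', rfl, hPR, hcop, hc1, Nat.modEq_zero_iff_dvd.1 hc2, hd2, Nat.modEq_zero_iff_dvd.1 hd1, ?_⟩
  rw [← hPR]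
  exact (Nat.modEq_and_modEq_iff_modEq_mul hcop).1 ⟨by simpa using hc1.add hd1, by simpa using hc2.add hd2⟩

theorem pow_card_eq_one (μ : N →* ℂ) : μ ^ Nat.card N = 1 :=
  MonoidHom.ext fun n => by rw [MonoidHom.pow_apply, ← map_pow, pow_card_eq_one', map_one]; rfl

theorem pow_eq_self {μ : N →* ℂ} {P c : ℕ} (h : μ ^ P = 1) (hc : c ≡ 1 [MOD P]) : μ ^ c = μ := by
  conv_rhs => rw [← pow_one μ]
  exact pow_eq_pow_of_modEq hc h

theorem pow_eq_one' {μ : N →* ℂ} {P c : ℕ} (h : μ ^ P = 1) (hc : P ∣ c) : μ ^ c = 1 := by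
  obtain ⟨k, rfl⟩ := hc
  rw [pow_mul, h, one_pow]

/-- Behaviour of a degree prime to `p`. -/
theorem univ_or_linear (hNG : N ≤ commutator G) {p : ℕ} (hp : p.Prime) {a : ℕ} (ha : a ∈ relCharDegrees N)
    (hpa : ¬ p ∣ a) :
    (∀ μ : N →* ℂ, μ ≠ 1 → μ ^ p ^ (Nat.card N).factorization p = 1 → ∀ b, Deg N b μ → Conn N a b) ∨
    ∃ ρ : N →* ℂ, ρ ≠ 1 ∧ ρ ^ p ^ (Nat.card N).factorization p = 1 ∧ Deg N a ρ ∧ (stab ρ).index ≠ 1 ∧
      ¬ p ∣ (stab ρ).index := by
  classical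
  haveI := Fintype.ofFinite G
  haveI := Fintype.ofFinite N
  obtain ⟨P, R, c, c', hP, hPR, hcop, hc, hRc, hc', hPc', hsum⟩ := exists_proj hp N
  rw [← hP]
  obtain ⟨χ, ⟨x, hxN, hx⟩, rfl⟩ := ha
  have hres := CharBasics.isCharacter_restrict (isCharacter_of_irr χ.2) N
  obtain ⟨θ, m, hm, hθm⟩ := exists_constituent hres (by simpa using apply_one_ne_zero χ.2)
  have hin : classInner (fun n : N => (χ : G → ℂ) n) (θ : N → ℂ) ≠ 0 := by
    rw [hθm]; exact Nat.cast_ne_zero.2 hm.ne'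
  have hmem : charDegree (χ : G → ℂ) ∈ relCharDegrees N := ⟨χ, ⟨x, hxN, hx⟩, rfl⟩
  have hapos := charDegree_pos χ.2
  have hθne : (θ : N → ℂ) ≠ fun _ => 1 := by
    intro hθ1
    have hinv : ∀ g : G, conjFun g (θ : N → ℂ) = (θ : N → ℂ) := fun g => by rw [hθ1]; rfl
    have hr := restrict_eq_smul_of_invariant χ.2 θ.2 hinv hin
    have h1 := congrFun hr ⟨x, hxN⟩
    have h2 := congrFun hr 1
    rw [Pi.smul_apply, hθ1] at h1 h2
    exact hx (h1.trans h2.symm)
  have hdvd : charDegree (θ : N → ℂ) ∣ charDegree (χ : G → ℂ) := by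
    have h1 := restrict_one_eq χ.2 θ.2 hin
    rw [hθm, apply_one (isCharacter_of_irr χ.2), apply_one (isCharacter_of_irr θ.2), ← Nat.cast_mul,
      ← Nat.cast_mul, Nat.cast_inj] at h1
    exact h1 ▸ dvd_mul_left _ _
  have hpd : ¬ p ∣ charDegree (θ : N → ℂ) := fun h => hpa (h.trans hdvd)
  by_cases hd1 : charDegree (θ : N → ℂ) = 1
  · obtain ⟨φ, hφ⟩ := exists_hom_of_linear (isCharacter_of_irr θ.2)
      (by rw [apply_one (isCharacter_of_irr θ.2), hd1, Nat.cast_one])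
    have hφ1 : φ ≠ 1 := fun h => hθne (by rw [hφ, h]; rfl)
    have haφ : Deg N (charDegree (χ : G → ℂ)) φ := ⟨hmem, hapos, (χ : G → ℂ), (θ : N → ℂ), 1, χ.2, θ.2, rfl,
      fun {_} => by convert hin, fun n => by rw [hφ, detChar_hom, pow_one]⟩
    by_cases hω : φ ^ c' = 1
    · right
      have hρ : φ ^ c = φ := by
        have : φ ^ (c + c') = φ := pow_eq_self (pow_card_eq_one φ) hsum
        rwa [pow_add, hω, mul_one] at this
      have hρP : φ ^ P = 1 := by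
        rw [← hρ, ← pow_mul]
        obtain ⟨k, rfl⟩ := hRc
        rw [show R * k * P = P * R * k by ring, hPR, pow_mul, pow_card_eq_one, one_pow]
      obtain ⟨hi, hone⟩ := above_dvd hNG haφ.2.2
      refine ⟨φ, hφ1, hρP, haφ, fun h1 => hpa ?_, fun h => hpa (h.trans hi)⟩
      obtain ⟨n0, hn0⟩ : ∃ n0 : N, φ n0 ≠ 1 := not_forall.1 fun h => hφ1 (MonoidHom.ext h)
      have h2 : orderOf (φ n0) ∣ charDegree (χ : G → ℂ) := orderOf_dvd_of_pow_eq_one (hone h1 n0)
      have h3 : φ n0 ^ P = 1 := by rw [← MonoidHom.pow_apply, hρP]; rfl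
      rw [hP] at h3
      obtain ⟨i, -, hi'⟩ := (Nat.dvd_prime_pow hp).1 (orderOf_dvd_of_pow_eq_one h3)
      rcases Nat.eq_zero_or_pos i with rfl | hipos
      · exact absurd (orderOf_eq_one_iff.1 (by simpa using hi')) hn0
      · exact ((dvd_pow_self p hipos.ne').trans (hi' ▸ dvd_rfl)).trans h2
    · left
      intro μ hμ hμP b hb
      set ω := φ ^ c' with hωdef
      have hωR : ω ^ R = 1 := by
        rw [hωdef, ← pow_mul]
        obtain ⟨k, rfl⟩ := hPc'
        rw [show P * k * R = P * R * k by ring, hPR, pow_mul, pow_card_eq_one, one_pow]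
      have h1 : (ω * μ) ^ c' = ω := by
        rw [mul_pow, pow_eq_self hωR hc', pow_eq_one' hμP hPc', mul_one]
      have h2 : (ω * μ) ^ c = μ := by
        rw [mul_pow, pow_eq_self hμP hc, pow_eq_one' hωR hRc, one_mul]
      obtain ⟨b', hb'⟩ := exists_deg_hom (μ := ω * μ) (fun h => hω (by rw [← h1, h, one_pow]))
      exact (conn_of_deg hNG hω (haφ.pow c') (h1 ▸ hb'.pow c')).trans
        (conn_of_deg hNG hμ (h2 ▸ hb'.pow c) hb)
  · left
    intro μ hμ hμP b hb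
    set d := charDegree (θ : N → ℂ) with hd
    obtain ⟨f, hf⟩ := exists_detHom θ.2
    have hdcop : d.Coprime P := by
      rw [hP]; exact ((hp.coprime_iff_not_dvd).2 hpd).symm.pow_right _
    set ρ : N →* ℂ := μ * (f ^ c) ^ (P - 1) with hρdef
    have hfP : (f ^ c) ^ P = 1 := by
      obtain ⟨k, rfl⟩ := hRc
      rw [← pow_mul, show R * k * P = P * R * k by ring, hPR, pow_mul, pow_card_eq_one, one_pow]
    have hρP : ρ ^ P = 1 := by rw [hρdef, mul_pow, hμP, ← pow_mul, mul_comm (P - 1), pow_mul, hfP, one_pow, one_mul]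
    obtain ⟨k, hk⟩ : ∃ k : ℕ, d * k ≡ 1 [MOD P] := by
      obtain ⟨k, hk1, hk2⟩ := Nat.chineseRemainder hdcop 0 1
      obtain ⟨t, rfl⟩ := Nat.modEq_zero_iff_dvd.1 hk1
      exact ⟨t, hk2⟩
    set lam : N →* ℂ := ρ ^ k with hlam
    have hPpos : 0 < P := hP ▸ pow_pos hp.pos _
    have key : ∀ n : N, μ n = detChar (fun x => lam x * (θ : N → ℂ) x) n ^ c := by
      intro n
      have e0 : (lam ^ d * f) ^ c = μ := by
        rw [mul_pow, hlam, ← pow_mul ρ, ← pow_mul ρ, pow_eq_self hρP, hρdef, mul_assoc, ← pow_succ,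
          Nat.sub_add_cancel hPpos, hfP, mul_one]
        rw [mul_comm k d]
        simpa using hk.mul hc
      rw [detChar_linear_mul θ.2 lam (apply_one (isCharacter_of_irr θ.2)), hf, ← hd]
      exact (DFunLike.congr_fun e0 n).symm
    have hirr := isIrrCharacter_linear_mul θ.2 lam
    have hdeg' : charDegree (fun x => lam x * (θ : N → ℂ) x) = d := by
      simp [hd, charDegree]
    obtain ⟨b', hb'mem, hb'pos, hdvd', hb'⟩ := exists_deg hirr (fun h => hd1 (by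
      rw [← hdeg', h]; simp [charDegree]))
    have h1 : 1 < d := lt_of_le_of_ne (charDegree_pos θ.2) (Ne.symm hd1)
    exact (conn_of_dvd h1 hmem hb'mem hdvd (hdeg' ▸ hdvd') hapos).trans (conn_of_deg hNG hμ (hb' μ c key) hb)

/-- A prime divisor of `|N : N'|` gives a linear character of `p`-power order. -/
theorem exists_p_hom {p : ℕ} (hp : p.Prime) (h : p ∣ ⁅N, N⁆.relIndex N) :
    ∃ μ : N →* ℂ, μ ≠ 1 ∧ μ ^ p ^ (Nat.card N).factorization p = 1 := by
  classical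
  haveI : Fact p.Prime := ⟨hp⟩
  have hidx : ⁅N, N⁆.relIndex N = (commutator ↥N).index := by
    have hm : (commutator ↥N).map N.subtype = ⁅N, N⁆ := Subgroup.map_subtype_commutator N
    rw [Subgroup.relIndex, ← hm, Subgroup.subgroupOf,
      Subgroup.comap_map_eq_self_of_injective N.subtype_injective]
  rw [hidx, Subgroup.index_eq_card] at h
  obtain ⟨A, hA⟩ := exists_prime_orderOf_dvd_card' (G := Abelianization ↥N) p h
  obtain ⟨φ, hφ⟩ := CommGroup.exists_apply_ne_one_of_hasEnoughRootsOfUnity (Abelianization ↥N) ℂ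
    (a := A) (fun e => hp.ne_one (by rw [← hA, e]; exact orderOf_one))
  obtain ⟨n, rfl⟩ := QuotientGroup.mk_surjective A
  let ν : N →* ℂ := (Units.coeHom ℂ).comp (φ.comp Abelianization.of)
  obtain ⟨P, R, c, c', hP, hPR, -, hc, hRc, -, -, -⟩ := exists_proj hp N
  have hn : ν n ^ p = 1 := by
    rw [← map_pow]
    show ((φ (Abelianization.of (n ^ p)) : ℂˣ) : ℂ) = 1
    rw [map_pow, show (Abelianization.of n) ^ p = 1 from hA ▸ pow_orderOf_eq_one _, map_one, Units.val_one]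
  refine ⟨ν ^ c, fun e => hφ ?_, ?_⟩
  · have hpP : p ∣ P := by
      rw [hP]
      refine dvd_pow_self p (hp.factorization_pos_of_dvd Nat.card_pos.ne' ?_).ne'
      exact h.trans (Subgroup.index_eq_card (commutator ↥N) ▸ Subgroup.index_dvd_card _)
    have h1 : ν n ^ c = ν n ^ 1 := pow_eq_pow_of_modEq (hc.of_dvd hpP) hn
    rw [pow_one, ← MonoidHom.pow_apply, e] at h1
    exact Units.ext h1.symm
  · rw [← hP, ← pow_mul]
    obtain ⟨k, rfl⟩ := hRc
    rw [show R * k * P = P * R * k by ring, hPR, pow_mul, pow_card_eq_one, one_pow]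

variable (hNG : N ≤ commutator G)
include hNG

/-- All degrees prime to `p` are connected. -/
theorem conn_of_not_dvd {p : ℕ} (hp : p.Prime) (hpm : p ∣ ⁅N, N⁆.relIndex N) {a b : ℕ}
    (ha : a ∈ relCharDegrees N) (hb : b ∈ relCharDegrees N) (hpa : ¬ p ∣ a) (hpb : ¬ p ∣ b) : Conn N a b := by
  obtain ⟨μ, hμ, hμP⟩ := exists_p_hom hp hpm
  obtain ⟨e, he⟩ := exists_deg_hom hμ
  rcases univ_or_linear hNG hp ha hpa with hua | ⟨ρ, hρ, hρP, haρ, hi, hpi⟩ <;>
    rcases univ_or_linear hNG hp hb hpb with hub | ⟨σ, hσ, hσP, hbσ, hj, hpj⟩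
  · exact (hua μ hμ hμP e he).trans (hub μ hμ hμP e he).symm
  · exact hua σ hσ hσP b hbσ
  · exact (hub ρ hρ hρP a haρ).symm
  · obtain ⟨hia, -⟩ := above_dvd hNG haρ.2.2
    obtain ⟨hjb, -⟩ := above_dvd hNG hbσ.2.2
    have share : ∀ {x y : ℕ}, ¬ x.Coprime y → 0 < x → 1 < x.gcd y := fun {x y} h hx => by
      have := Nat.gcd_pos_of_pos_left y hx
      have h' : x.gcd y ≠ 1 := h
      omega
    have hipos : 0 < (stab ρ).index := Nat.pos_of_ne_zero Subgroup.index_ne_zero_of_finite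
    by_cases hcop : (stab ρ).index.Coprime (stab σ).index
    · have h1 := not_coprime_index_mul hp hρP hi hpj hcop
      have h2 := not_coprime_index_mul hp hσP hj hpi hcop.symm
      rw [mul_comm σ ρ] at h2
      have hk : ρ * σ ≠ 1 := fun e1 => h1 (by
        have htop : stab (ρ * σ) = ⊤ := eq_top_iff.2 fun g _ => mem_stab.2 (by rw [e1]; rfl)
        rw [htop, Subgroup.index_top]
        exact Nat.coprime_one_left _)
      obtain ⟨d, hd⟩ := exists_deg_hom hk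
      obtain ⟨hkd, -⟩ := above_dvd hNG hd.2.2
      have hkpos : 0 < (stab (ρ * σ)).index := Nat.pos_of_ne_zero Subgroup.index_ne_zero_of_finite
      refine (conn_of_dvd (share h1 hkpos) ha hd.1 ((Nat.gcd_dvd_right _ _).trans hia)
        ((Nat.gcd_dvd_left _ _).trans hkd) haρ.2.1).trans ?_
      exact conn_of_dvd (share h2 hkpos) hd.1 hb ((Nat.gcd_dvd_left _ _).trans hkd)
        ((Nat.gcd_dvd_right _ _).trans hjb) hd.2.1
    · exact conn_of_dvd (share hcop hipos) ha hb ((Nat.gcd_dvd_left _ _).trans hia)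
        ((Nat.gcd_dvd_right _ _).trans hjb) haρ.2.1

/-- A degree prime to `p` is connected to every degree over a `q`-character, `q ≠ p`. -/
theorem conn_other {p q : ℕ} (hp : p.Prime) (hq : q.Prime) (hpq : p ≠ q) (hpm : p ∣ ⁅N, N⁆.relIndex N)
    {a : ℕ} (ha : a ∈ relCharDegrees N) (hpa : ¬ p ∣ a) {ν : N →* ℂ} (hν : ν ≠ 1)
    (hνQ : ν ^ q ^ (Nat.card N).factorization q = 1) {b : ℕ} (hb : Deg N b ν) : Conn N a b := by
  obtain ⟨P, R, c, c', hP, hPR, hcop, hc, hRc, hc', hPc', -⟩ := exists_proj hp N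
  have hQR : q ^ (Nat.card N).factorization q ∣ R := by
    have h : q ^ (Nat.card N).factorization q ∣ P * R := hPR ▸ Nat.ordProj_dvd _ _
    exact (((Nat.coprime_primes hq hp).2 (Ne.symm hpq)).pow _ _).dvd_of_dvd_mul_left (hP ▸ h)
  have hνR : ν ^ R = 1 := pow_eq_one' hνQ hQR
  have link : ∀ ρ : N →* ℂ, ρ ≠ 1 → ρ ^ P = 1 → ∀ e, Deg N e ρ → Conn N e b := by
    intro ρ hρ hρP e he
    have h1 : (ρ * ν) ^ c = ρ := by rw [mul_pow, pow_eq_self hρP hc, pow_eq_one' hνR hRc, mul_one]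
    have h2 : (ρ * ν) ^ c' = ν := by rw [mul_pow, pow_eq_self hνR hc', pow_eq_one' hρP hPc', one_mul]
    obtain ⟨d, hd⟩ := exists_deg_hom (μ := ρ * ν) (fun h => hρ (by rw [← h1, h, one_pow]))
    exact (conn_of_deg hNG hρ he (h1 ▸ hd.pow c)).trans (conn_of_deg hNG hν (h2 ▸ hd.pow c') hb)
  rcases univ_or_linear hNG hp ha hpa with hua | ⟨ρ, hρ, hρP, haρ, -, -⟩
  · obtain ⟨μ, hμ, hμP⟩ := exists_p_hom hp hpm
    obtain ⟨e, he⟩ := exists_deg_hom hμ
    exact (hua μ hμ hμP e he).trans (link μ hμ (hP ▸ hμP) e he)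
  · exact link ρ hρ (hP ▸ hρP) a haρ

/-- Unconnected degrees are separated by the primes of `|N : N'|`. -/
theorem separated {a b : ℕ} (ha : a ∈ relCharDegrees N) (hb : b ∈ relCharDegrees N) (hab : ¬ Conn N a b)
    (hapos : 0 < a) {p : ℕ} (hp : p.Prime) (hpm : p ∣ ⁅N, N⁆.relIndex N) (hpb : p ∣ b) :
    ¬ p ∣ a ∧ ∀ q : ℕ, q.Prime → q ∣ ⁅N, N⁆.relIndex N → q ∣ b ∧ ¬ q ∣ a := by
  have h1 : ¬ p ∣ a := fun h => hab (conn_of_dvd hp.one_lt ha hb h hpb hapos)
  refine ⟨h1, fun q hq hqm => ?_⟩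
  have h2 : q ∣ b := by
    by_contra hqb
    have hpq : p ≠ q := fun e => hqb (e ▸ hpb)
    obtain ⟨ν, hν, hνQ⟩ := exists_p_hom hq hqm
    obtain ⟨μ, hμ, hμP⟩ := exists_p_hom hp hpm
    obtain ⟨e, he⟩ := exists_deg_hom hν
    obtain ⟨f, hf⟩ := exists_deg_hom hμ
    obtain ⟨P, R, c, c', hP, hPR, hcop, hc, hRc, hc', hPc', -⟩ := exists_proj hp N
    have hQR : q ^ (Nat.card N).factorization q ∣ R := by
      have h : q ^ (Nat.card N).factorization q ∣ P * R := hPR ▸ Nat.ordProj_dvd _ _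
      exact (((Nat.coprime_primes hq hp).2 (Ne.symm hpq)).pow _ _).dvd_of_dvd_mul_left (hP ▸ h)
    have hνR : ν ^ R = 1 := pow_eq_one' hνQ hQR
    have k1 : (μ * ν) ^ c = μ := by rw [mul_pow, pow_eq_self (hP ▸ hμP) hc, pow_eq_one' hνR hRc, mul_one]
    have k2 : (μ * ν) ^ c' = ν := by rw [mul_pow, pow_eq_self hνR hc', pow_eq_one' (hP ▸ hμP) hPc', one_mul]
    obtain ⟨d, hd⟩ := exists_deg_hom (μ := μ * ν) (fun h => hμ (by rw [← k1, h, one_pow]))
    have h3 : Conn N a e := conn_other hNG hp hq hpq hpm ha h1 hν hνQ he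
    have h4 : Conn N b f := conn_other hNG hq hp (Ne.symm hpq) hqm hb hqb hμ hμP hf
    have h5 : Conn N e f := (conn_of_deg hNG hν he (k2 ▸ hd.pow c')).trans (conn_of_deg hNG hμ (k1 ▸ hd.pow c) hf)
    exact hab (h3.trans (h5.trans h4.symm))
  exact ⟨h2, fun h => hab (conn_of_dvd hq.one_lt ha hb h h2 hapos)⟩

end CfsgLib.RelDegGraph
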