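import Cfsg.Agent.RelDegGraph.Det

/-!
# Orbits of linear characters with coprime sizes
-/

set_option autoImplicit false

namespace CfsgLib.RelDegGraph

open Cfsg CfsgLib.Clifford

universe u

variable {G : Type u} [Group G] [Finite G] {N : Subgroup G} [hN : N.Normal]

/-- The conjugate of a linear character. -/
noncomputable def cj (g : G) (μ : N →* ℂ) : N →* ℂ := μ.comp (MulAut.conjNormal g).toMonoidHom

omit [Finite G] in
theorem cj_apply (g : G) (μ : N →* ℂ) (n : N) : cj g μ n = μ (MulAut.conjNormal g n) := rfl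

omit [Finite G] in
theorem cj_mul (a b : G) (μ : N →* ℂ) : cj b (cj a μ) = cj (a * b) μ :=
  MonoidHom.ext fun n => by simp [cj_apply, map_mul]

omit [Finite G] in
theorem mem_stab {μ : N →* ℂ} {g : G} : g ∈ stab μ ↔ cj g μ = μ := by
  rw [stab, mem_inertia, conjFun_eq_comp]
  exact ⟨fun h => MonoidHom.ext (congrFun h), fun h => funext (DFunLike.congr_fun h)⟩

omit [Finite G] in
theorem cj_eq_iff {μ : N →* ℂ} {a b : G} : cj a μ = cj b μ ↔ a * b⁻¹ ∈ stab μ := by
  rw [mem_stab, ← cj_mul]
  refine ⟨fun h => ?_, fun h => ?_⟩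
  · rw [h, cj_mul, mul_inv_cancel]
    exact MonoidHom.ext fun n => by simp [cj_apply]
  · conv_rhs => rw [← h, cj_mul, inv_mul_cancel]
    exact MonoidHom.ext fun n => by simp [cj_apply]

theorem ncard_orbit (μ : N →* ℂ) : Nat.card {x : N →* ℂ // ∃ g : G, cj g μ = x} = (stab μ).index := by
  classical
  haveI := Fintype.ofFinite G
  rw [stab, ← card_orbit (N := N) (fun n : N => μ n), ← Fintype.card_coe, ← Nat.card_eq_fintype_card]
  refine Nat.card_congr (Equiv.ofBijective (fun x => ⟨fun n => x.1 n, ?_⟩) ⟨fun x y h => ?_, fun y => ?_⟩)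
  · obtain ⟨g, hg⟩ := x.2
    refine Finset.mem_image.2 ⟨g, Finset.mem_univ _, ?_⟩
    rw [← hg, conjFun_eq_comp]
    rfl
  · exact Subtype.ext (MonoidHom.ext (congrFun (congrArg Subtype.val h)))
  · obtain ⟨g, -, hg⟩ := Finset.mem_image.1 y.2
    refine ⟨⟨cj g μ, g, rfl⟩, Subtype.ext ?_⟩
    rw [← hg, conjFun_eq_comp]
    rfl

/-- If the indices are coprime, every element is a product. -/
theorem exists_mul_of_coprime (A B : Subgroup G) (h : A.index.Coprime B.index) (g : G) :
    ∃ a ∈ A, ∃ b ∈ B, g = a * b := by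
  classical
  let f : A ⧸ B.subgroupOf A → G ⧸ B :=
    Quotient.map' Subtype.val fun x y hxy => by
      rw [QuotientGroup.leftRel_apply] at hxy ⊢
      exact hxy
  have hinj : Function.Injective f := by
    intro x y
    induction x using QuotientGroup.induction_on with
    | H x => induction y using QuotientGroup.induction_on with
      | H y =>
        intro hxy
        exact QuotientGroup.eq.2 ((QuotientGroup.eq (s := B)).1 hxy : ((x : G))⁻¹ * (y : G) ∈ B)
  have hdvd : B.index ∣ B.relIndex A := by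
    have h1 : A.index * B.relIndex A = (B ⊓ A).index := by
      rw [mul_comm, ← Subgroup.inf_relIndex_right, Subgroup.relIndex_mul_index inf_le_right]
    exact h.symm.dvd_of_dvd_mul_left (h1 ▸ Subgroup.index_dvd_of_le inf_le_left)
  have hle : B.relIndex A ≤ B.index := Nat.card_le_card_of_injective f hinj
  have hcard : Nat.card (A ⧸ B.subgroupOf A) = Nat.card (G ⧸ B) := by
    refine le_antisymm hle (Nat.le_of_dvd ?_ hdvd)
    exact Nat.pos_of_ne_zero Subgroup.index_ne_zero_of_finite
  obtain ⟨q, hq⟩ := (hinj.bijective_of_nat_card_le hcard.ge).2 (g : G ⧸ B)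
  induction q using QuotientGroup.induction_on with
  | H a => exact ⟨a, a.2, (a : G)⁻¹ * g, (QuotientGroup.eq (s := B)).1 hq, by group⟩

/-- **Orbit lemma.** For coprime orbit sizes, both prime to the exponent, the product has an orbit size
sharing a divisor with each. -/
theorem not_coprime_index_mul {p : ℕ} (hp : p.Prime) {x y : N →* ℂ} {a : ℕ} (hx : x ^ p ^ a = 1)
    (hi : (stab x).index ≠ 1) (hpj : ¬ p ∣ (stab y).index) (hcop : (stab x).index.Coprime (stab y).index) :
    ¬ ((stab (x * y)).index).Coprime (stab x).index := by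
  classical
  intro hk
  let O : (N →* ℂ) → Type u := fun z => {w : N →* ℂ // ∃ g : G, cj g z = w}
  have hfin : ∀ z, Finite (O z) := fun z =>
    Finite.of_surjective (fun g : G => (⟨cj g z, g, rfl⟩ : O z)) fun w => by
      obtain ⟨g, hg⟩ := w.2
      exact ⟨g, Subtype.ext hg⟩
  haveI := hfin
  -- all pairs are conjugate
  have hpair : ∀ g1 g2 : G, ∃ g : G, cj g (x * y) = cj g1 x * cj g2 y := by
    intro g1 g2
    obtain ⟨s, hs, t, ht, hst⟩ := exists_mul_of_coprime _ _ hcop (g1 * g2⁻¹)
    refine ⟨t * g2, ?_⟩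
    have h1 : cj (t * g2) x = cj g1 x := by
      rw [cj_eq_iff, show t * g2 * g1⁻¹ = s⁻¹ by
        rw [eq_inv_iff_mul_eq_one]
        calc t * g2 * g1⁻¹ * s = t * g2 * g1⁻¹ * (s * t) * t⁻¹ := by group
          _ = 1 := by rw [← hst]; group]
      exact inv_mem hs
    have h2 : cj (t * g2) y = cj g2 y := by rw [cj_eq_iff, mul_inv_cancel_right]; exact ht
    exact MonoidHom.ext fun n => by
      simp only [MonoidHom.mul_apply, ← h1, ← h2, cj_apply]
  -- translations
  let tr : ∀ g1 : G, O y → O (x * y) := fun g1 w => ⟨cj g1 x * w.1, by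
    obtain ⟨g2, hg2⟩ := w.2
    rw [← hg2]; exact hpair g1 g2⟩
  have hxinv : ∀ g : G, cj g x ^ (p ^ a - 1) * cj g x = 1 := fun g => by
    rw [← pow_succ, Nat.sub_add_cancel (Nat.one_le_pow _ _ hp.pos)]
    exact MonoidHom.ext fun n => by
      rw [MonoidHom.pow_apply, cj_apply, ← MonoidHom.pow_apply, hx]; rfl
  have hcancel : ∀ (g : G) (u v : N →* ℂ), cj g x * u = cj g x * v → u = v := fun g u v h => by
    have := congrArg (cj g x ^ (p ^ a - 1) * ·) h
    simpa [← mul_assoc, hxinv] using this
  have htrinj : ∀ g, Function.Injective (tr g) := fun g w w' h =>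
    Subtype.ext (hcancel g _ _ (congrArg Subtype.val h))
  -- the size of the orbit of the product
  have hkj : (stab (x * y)).index = (stab y).index := by
    have h1 : (stab (x * y)).index ∣ (stab x ⊓ stab y).index := by
      refine Subgroup.index_dvd_of_le fun g hg => mem_stab.2 (MonoidHom.ext fun n => ?_)
      rw [Subgroup.mem_inf, mem_stab, mem_stab] at hg
      simp only [cj_apply, MonoidHom.mul_apply]
      rw [← cj_apply g x, ← cj_apply g y, hg.1, hg.2]
    have h2 : (stab x ⊓ stab y).index ∣ (stab x).index * (stab y).index := by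
      have h5 := hcop.mul_dvd_of_dvd_of_dvd (Subgroup.index_dvd_of_le (inf_le_left : stab x ⊓ stab y ≤ stab x))
        (Subgroup.index_dvd_of_le (inf_le_right : stab x ⊓ stab y ≤ stab y))
      rw [le_antisymm (Subgroup.index_inf_le) (Nat.le_of_dvd (Nat.pos_of_ne_zero Subgroup.index_ne_zero_of_finite) h5)]
    have h3 : (stab (x * y)).index ∣ (stab y).index := hk.dvd_of_dvd_mul_left (h1.trans h2)
    refine Nat.dvd_antisymm h3 ?_
    have h4 := Nat.card_le_card_of_injective _ (htrinj 1)
    rw [ncard_orbit, ncard_orbit] at h4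
    rw [le_antisymm (Nat.le_of_dvd (Nat.pos_of_ne_zero Subgroup.index_ne_zero_of_finite) h3) h4]
  obtain ⟨g0, hg0⟩ : ∃ g0 : G, cj g0 x ≠ x := by
    by_contra hne
    push Not at hne
    exact hi (Subgroup.index_eq_one.2 (eq_top_iff.2 fun g _ => mem_stab.2 (hne g)))
  have hbij : ∀ g, Function.Bijective (tr g) := fun g => (htrinj g).bijective_of_nat_card_le (by
    rw [ncard_orbit, ncard_orbit, hkj])
  let h : N →* ℂ := x ^ (p ^ a - 1) * cj g0 x
  have hone : cj (1 : G) x = x := MonoidHom.ext fun n => by simp [cj_apply]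
  have hmem : ∀ w : O y, ∃ g : G, cj g y = h * w.1 := by
    intro w
    obtain ⟨w', hw'⟩ := (hbij 1).2 (tr g0 w)
    have e := congrArg Subtype.val hw'
    simp only [tr, hone] at e
    obtain ⟨g, hg⟩ := w'.2
    refine ⟨g, ?_⟩
    have := congrArg (x ^ (p ^ a - 1) * ·) e
    rw [hg]
    simpa only [h, ← mul_assoc, show x ^ (p ^ a - 1) * x = 1 by simpa [hone] using hxinv 1, one_mul] using this
  have hh : h ^ p ^ a = 1 := by
    rw [mul_pow, ← pow_mul, mul_comm (p ^ a - 1), pow_mul, hx, one_pow, one_mul]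
    exact MonoidHom.ext fun n => by
      rw [MonoidHom.pow_apply, cj_apply, ← MonoidHom.pow_apply, hx]; rfl
  have hh1 : h ≠ 1 := fun e => hg0 (by
    have hx1 : x * x ^ (p ^ a - 1) = 1 := by
      rw [mul_comm]; simpa [hone] using hxinv 1
    have := congrArg (x * ·) e
    simpa only [h, ← mul_assoc, hx1, one_mul, mul_one] using this)
  -- the group generated by `h` permutes the orbit of `y` freely
  let σ : Equiv.Perm (O y) := Equiv.ofBijective (fun w => ⟨h * w.1, hmem w⟩)
    (Finite.injective_iff_bijective.1 fun w w' e => Subtype.ext (by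
      have e' := congrArg (fun v : O y => h ^ (p ^ a - 1) * v.1) e
      simpa only [← mul_assoc, ← pow_succ, Nat.sub_add_cancel (Nat.one_le_pow _ _ hp.pos), hh, one_mul] using e'))
  have hσ : ∀ (k : ℕ) (w : O y), ((σ ^ k) w).1 = h ^ k * w.1 := by
    intro k
    induction k with
    | zero => intro w; simp
    | succ k ih =>
      intro w
      rw [pow_succ', Equiv.Perm.mul_apply, pow_succ', mul_assoc, ← ih]
      rfl
  have hσpow : σ ^ p ^ a = 1 := Equiv.ext fun w => Subtype.ext (by rw [hσ, hh, one_mul]; rfl)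
  haveI : Fact p.Prime := ⟨hp⟩
  have hG : IsPGroup p (Subgroup.zpowers σ) := by
    rw [IsPGroup.iff_card, Nat.card_zpowers]
    obtain ⟨i, -, hi⟩ := (Nat.dvd_prime_pow hp).1 (orderOf_dvd_of_pow_eq_one hσpow)
    exact ⟨i, hi⟩
  have hpO : ¬ p ∣ Nat.card (O y) := by rwa [ncard_orbit]
  obtain ⟨w, hw⟩ := hG.nonempty_fixed_point_of_prime_not_dvd_card (O y) hpO
  have := hw ⟨σ, Subgroup.mem_zpowers σ⟩
  have e : h * w.1 = w.1 := congrArg Subtype.val this
  apply hh1
  refine MonoidHom.ext fun n => ?_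
  have hne : w.1 n ≠ 0 := fun h0 => by
    have := congrArg w.1 (mul_inv_cancel n)
    rw [map_mul, map_one, h0, zero_mul] at this
    exact zero_ne_one this
  exact mul_right_cancel₀ hne (by simpa using DFunLike.congr_fun e n)

end CfsgLib.RelDegGraph
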